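import Groth.Agent.CAlg8.LogExist.Residue

/-! Existence of the sheaf of logarithmic differentials. -/

set_option autoImplicit false
set_option maxHeartbeats 800000
set_option backward.isDefEq.respectTransparency false
set_option backward.isDefEq.respectTransparency.types false
set_option linter.style.haveILetI false

universe u

noncomputable section

open CategoryTheory CategoryTheory.Limits AlgebraicGeometry TopologicalSpace Opposite
open Groth.Agent Groth.Agent.QC70
open scoped nonZeroDivisors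

namespace Groth.Agent.CAlg8.LogExist

variable {X S : Scheme.{u}} {f : X ⟶ S} [Smooth f] {Ω' : X.Modules} {d : OmegaSh.Der f Ω'}
  (hd : OmegaSh.IsUniversal d) {r : ℕ} {D : Fin r → X.IdealSheafData} (hD : LogNCD.IsNCD D f)

/-- `(m, t) ↦ [m] - Σ c_i(t_i)`. -/
def defect : (poles Ω' D ⊞ ∏ᶜ fun i => ClSub.quotMod (D i)) ⟶ prinParts Ω' D :=
  biprod.desc (toPrin Ω' D) (-coeffSum hd hD)

/-- The logarithmic forms. -/
def logForms : X.Modules := kernel (defect hd hD)

/-- The underlying form with poles. -/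
def polePart : logForms hd hD ⟶ poles Ω' D := kernel.ι (defect hd hD) ≫ biprod.fst

/-- The residues. -/
def resPart : logForms hd hD ⟶ ∏ᶜ fun i => ClSub.quotMod (D i) := kernel.ι (defect hd hD) ≫ biprod.snd

include hd hD in
theorem logForms_ext {U : X.Opens} {x y : Γ(logForms hd hD, U)}
    (h1 : (polePart hd hD).app U x = (polePart hd hD).app U y)
    (h2 : (resPart hd hD).app U x = (resPart hd hD).app U y) : x = y := by
  refine app_injective_of_mono (kernel.ι (defect hd hD)) U ?_
  have key : ∀ z : Γ(poles Ω' D ⊞ ∏ᶜ fun i => ClSub.quotMod (D i), U),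
      z = (biprod.inl : poles Ω' D ⟶ _).app U ((biprod.fst : _ ⟶ poles Ω' D).app U z) +
        (biprod.inr : (∏ᶜ fun i => ClSub.quotMod (D i)) ⟶ _).app U
          ((biprod.snd : poles Ω' D ⊞ (∏ᶜ fun i => ClSub.quotMod (D i)) ⟶ _).app U z) := fun z =>
    (congrArg (fun φ : (poles Ω' D ⊞ ∏ᶜ fun i => ClSub.quotMod (D i)) ⟶ _ => Scheme.Modules.Hom.app φ U z)
      biprod.total).symm
  rw [key ((kernel.ι (defect hd hD)).app U x), key ((kernel.ι (defect hd hD)).app U y)]
  exact congrArg₂ (· + ·) (congrArg _ h1) (congrArg _ h2)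

include hd hD in
theorem exists_logForm {U : X.Opens} (m : Γ(poles Ω' D, U)) (t : Γ(∏ᶜ fun i => ClSub.quotMod (D i), U))
    (h : (toPrin Ω' D).app U m = (coeffSum hd hD).app U t) :
    ∃ x : Γ(logForms hd hD, U), (polePart hd hD).app U x = m ∧ (resPart hd hD).app U x = t := by
  let i₁ : poles Ω' D ⟶ poles Ω' D ⊞ ∏ᶜ fun i => ClSub.quotMod (D i) := biprod.inl
  let i₂ : (∏ᶜ fun i => ClSub.quotMod (D i)) ⟶ poles Ω' D ⊞ ∏ᶜ fun i => ClSub.quotMod (D i) := biprod.inr
  have e1 : ∀ {A B C : X.Modules} (φ : A ⟶ B) (ψ : B ⟶ C) (χ : A ⟶ C), φ ≫ ψ = χ → ∀ a, ψ.app U (φ.app U a) = χ.app U a :=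
    fun φ ψ χ e a => congrArg (fun q => Scheme.Modules.Hom.app q U a) e
  obtain ⟨x, hx⟩ := exists_kernel_app_eq (defect hd hD) U (i₁.app U m + i₂.app U t) (by
    rw [map_add, defect, e1 i₁ _ _ (biprod.inl_desc _ _), e1 i₂ _ _ (biprod.inr_desc _ _), h]
    exact add_neg_cancel _)
  refine ⟨x, ?_, ?_⟩
  · show (biprod.fst : _ ⟶ poles Ω' D).app U ((kernel.ι (defect hd hD)).app U x) = m
    rw [hx, map_add, e1 i₁ _ _ biprod.inl_fst, e1 i₂ _ _ biprod.inr_fst]
    exact add_zero _
  · show (biprod.snd : poles Ω' D ⊞ (∏ᶜ fun i => ClSub.quotMod (D i)) ⟶ _).app U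
      ((kernel.ι (defect hd hD)).app U x) = t
    rw [hx, map_add, e1 i₁ _ _ biprod.inl_snd, e1 i₂ _ _ biprod.inr_snd]
    exact zero_add _

include hd hD in
theorem toPrin_polePart {U : X.Opens} (x : Γ(logForms hd hD, U)) :
    (toPrin Ω' D).app U ((polePart hd hD).app U x) = (coeffSum hd hD).app U ((resPart hd hD).app U x) := by
  have h : polePart hd hD ≫ toPrin Ω' D = resPart hd hD ≫ coeffSum hd hD := by
    have h1 : defect hd hD = biprod.fst ≫ toPrin Ω' D - biprod.snd ≫ coeffSum hd hD := by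
      rw [defect, biprod.desc_eq, Preadditive.comp_neg, sub_eq_add_neg]
    have h0 : kernel.ι (defect hd hD) ≫ (biprod.fst ≫ toPrin Ω' D - biprod.snd ≫ coeffSum hd hD) = 0 :=
      (congrArg (kernel.ι (defect hd hD) ≫ ·) h1).symm.trans (kernel.condition _)
    rw [Preadditive.comp_sub, sub_eq_zero] at h0
    simp only [polePart, resPart, Category.assoc]
    exact h0
  exact congrArg (fun φ : logForms hd hD ⟶ prinParts Ω' D => φ.app U x) h

/-- The inclusion of the forms. -/
def inclLog : Ω' ⟶ logForms hd hD :=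
  kernel.lift (defect hd hD) (incl Ω' D ≫ biprod.inl) (by
    rw [Category.assoc, defect, biprod.inl_desc]
    exact cokernel.condition _)

theorem inclLog_polePart : inclLog hd hD ≫ polePart hd hD = incl Ω' D := by
  simp [inclLog, polePart]

theorem inclLog_resPart : inclLog hd hD ≫ resPart hd hD = 0 := by
  simp [inclLog, resPart]

include hd hD in
theorem exists_dl (U : X.affineOpens) (g : Fin r → Γ(X, U.1)) (hg : IsEqs D U g) (i : Fin r) :
    ∃ x : Γ(logForms hd hD, U.1), (polePart hd hD).app U.1 x = hg.dlog hd hD i ∧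
      ∀ j, (Pi.π (fun i => ClSub.quotMod (D i)) j).app U.1 ((resPart hd hD).app U.1 x) =
        if i = j then LogNCD.oneOn (D j) U.1 else 0 := by
  classical
  let t₀ : Coh.structureModule X ⟶ ∏ᶜ fun i => ClSub.quotMod (D i) :=
    Pi.lift fun j => if i = j then ClSub.toSubscheme (D j) else 0
  let t := t₀.app U.1 (1 : Γ(X, U.1))
  have ht : ∀ j, (Pi.π (fun i => ClSub.quotMod (D i)) j).app U.1 t = if i = j then LogNCD.oneOn (D j) U.1 else 0 := by
    intro j
    refine (congrArg (fun φ : Coh.structureModule X ⟶ ClSub.quotMod (D j) => φ.app U.1 (1 : Γ(X, U.1)))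
      (Pi.lift_π (fun j => if i = j then ClSub.toSubscheme (D j) else 0) j)).trans ?_
    split_ifs <;> rfl
  obtain ⟨x, hx1, hx2⟩ := exists_logForm hd hD (hg.dlog hd hD i) t (by
    refine ((coeffSum_of_coords hd hD U g hg (fun j => if i = j then 1 else 0) t fun j => ?_).trans ?_).symm
    · rw [ht]
      split_ifs <;> simp
    · refine congrArg _ ?_
      rw [Finset.sum_eq_single i]
      · simp
      · intro j _ hj; simp [Ne.symm hj]
      · simp)
  exact ⟨x, hx1, fun j => by rw [hx2, ht]⟩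

include hd hD in
/-- Only forms have no residues. -/
theorem exists_eq_inclLog {U : X.Opens} (x : Γ(logForms hd hD, U)) (h : (resPart hd hD).app U x = 0) :
    ∃ ω : Γ(Ω', U), (inclLog hd hD).app U ω = x := by
  haveI := mono_incl hd hD (D := D)
  obtain ⟨ω, hω⟩ := exists_app_eq_of_exact (ShortComplex.mk (incl Ω' D) (toPrin Ω' D) (cokernel.condition _))
    (ShortComplex.exact_of_g_is_cokernel _ (cokernelIsCokernel _)) U ((polePart hd hD).app U x) (by
      show (toPrin Ω' D).app U _ = 0
      rw [toPrin_polePart, h, map_zero])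
  refine ⟨ω, logForms_ext hd hD ?_ ?_⟩
  · exact (congrArg (fun φ : Ω' ⟶ poles Ω' D => φ.app U ω) (inclLog_polePart hd hD)).trans hω
  · rw [h]
    exact congrArg (fun φ : Ω' ⟶ ∏ᶜ fun i => ClSub.quotMod (D i) => φ.app U ω) (inclLog_resPart hd hD)

include hd hD in
theorem exists_decomp_logForms (U : X.affineOpens) (g : Fin r → Γ(X, U.1)) (dl : Fin r → Γ(logForms hd hD, U.1))
    (hdl : ∀ i j, (Pi.π (fun i => ClSub.quotMod (D i)) j).app U.1 ((resPart hd hD).app U.1 (dl i)) =
      if i = j then LogNCD.oneOn (D j) U.1 else 0) (x : Γ(logForms hd hD, U.1)) :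
    ∃ (ω : Γ(Ω', U.1)) (a : Fin r → Γ(X, U.1)), (inclLog hd hD).app U.1 ω + ∑ i, a i • dl i = x := by
  classical
  have hs : ∀ i, ∃ a : Γ(X, U.1), (D i).subschemeι.app U.1 a =
      (Pi.π (fun i => ClSub.quotMod (D i)) i).app U.1 ((resPart hd hD).app U.1 x) := fun i =>
    (D i).subschemeι.app_surjective U.1 U.2 _
  choose a ha using hs
  obtain ⟨ω, hω⟩ := exists_eq_inclLog hd hD (x - ∑ i, a i • dl i) (by
    refine LogLoc97.prod_sections_ext _ _ fun j => ?_
    rw [map_zero, map_sub, map_sub, map_sum, map_sum, sub_eq_zero, ← ha j, Finset.sum_eq_single j]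
    · rw [Scheme.Modules.Hom.app_smul, Scheme.Modules.Hom.app_smul, hdl, if_pos rfl,
        ← LogLoc97.toSubscheme_app_eq]
      rfl
    · intro l _ hl
      rw [Scheme.Modules.Hom.app_smul, Scheme.Modules.Hom.app_smul, hdl, if_neg hl, smul_zero]
    · simp)
  exact ⟨ω, a, by rw [hω, sub_add_cancel]⟩

include hd hD in
theorem torsionFree_logForms (U : X.affineOpens) (g : Fin r → Γ(X, U.1)) (hg : IsEqs D U g)
    (x : Γ(logForms hd hD, U.1)) (hx : (∏ i, g i) • x = 0) : x = 0 := by
  classical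
  have hm : (polePart hd hD).app U.1 x = 0 := by
    refine hg.ev_injective hd hD ?_
    rw [map_zero]
    refine omega_torsionFree hd hD U (hg.prod_mem_nonZeroDivisors hd hD) _ ?_
    rw [← map_smul, ← Scheme.Modules.Hom.app_smul, hx, map_zero, map_zero]
  refine logForms_ext hd hD (by rw [hm, map_zero]) ?_
  rw [map_zero]
  refine LogLoc97.prod_sections_ext _ _ fun j => ?_
  rw [map_zero]
  refine section_ext _ _ _ fun y hy => ?_
  obtain ⟨V, hVU, σ, b, h, c, hyV, hh, hreg, hnone, hb, hinj⟩ := exists_adapted hd hD U.1 hy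
  refine ⟨V.1, hVU, hyV, ?_⟩
  rw [res_zero, ← app_res, ← app_res]
  let x' := res (logForms hd hD) hVU x
  have hs : ∀ i, ∃ a : Γ(X, V.1), (D i).subschemeι.app V.1 a =
      (Pi.π (fun i => ClSub.quotMod (D i)) i).app V.1 ((resPart hd hD).app V.1 x') := fun i =>
    (D i).subschemeι.app_surjective V.1 V.2 _
  choose a ha using hs
  have hta : ∀ i, (Pi.π (fun i => ClSub.quotMod (D i)) i).app V.1 ((resPart hd hD).app V.1 x') =
      a i • LogNCD.oneOn (D i) V.1 := fun i => by
    rw [← ha i, ← LogLoc97.toSubscheme_app_eq]; rfl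
  have hz : (toPrin Ω' D).app V.1 (∑ i, a i • hh.dlog hd hD i) = 0 := by
    rw [← coeffSum_of_coords hd hD V h hh a _ hta, ← toPrin_polePart, app_res, hm, res_zero, map_zero]
  haveI := mono_incl hd hD (D := D)
  obtain ⟨ω, hω⟩ := exists_app_eq_of_exact (ShortComplex.mk (incl Ω' D) (toPrin Ω' D) (cokernel.condition _))
    (ShortComplex.exact_of_g_is_cokernel _ (cokernelIsCokernel _)) V.1 _ hz
  suffices haj : a j ∈ (D j).ideal V by
    rw [hta j, ← LogLoc97.toSubscheme_app_eq]
    rw [← (D j).ker_subschemeι_app V] at haj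
    exact haj
  rw [hh j]
  rcases hc : c j with _ | s
  · rw [hnone j hc, Ideal.span_singleton_one]; trivial
  have h1 := congrArg hh.ev hω
  rw [hh.ev_incl, map_sum] at h1
  have h2 := congrArg (fun w => b.repr w s) h1
  simp only [map_smul, map_sum, Finsupp.smul_apply, Finsupp.coe_finsetSum, Finset.sum_apply, smul_eq_mul,
    hh.ev_dlog] at h2
  rw [Finset.sum_eq_single j] at h2
  · rw [← hb j s hc, b.repr_self, Finsupp.single_eq_same, mul_one, ← Finset.mul_prod_erase _ h (Finset.mem_univ j),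
      mul_assoc] at h2
    refine Ideal.mem_span_singleton'.2 ⟨b.repr ω s, ?_⟩
    refine sub_eq_zero.1 ((mem_nonZeroDivisors_iff_right.1
      (prod_mem (fun l (_ : l ∈ Finset.univ.erase j) => hreg l))) _ ?_)
    rw [sub_mul, sub_eq_zero]
    linear_combination h2
  · intro l _ hl
    rcases hcl : c l with _ | s'
    · rw [hnone l hcl, LogLoc97.der_one, map_zero]
      simp
    · rw [← hb l s' hcl, b.repr_self, Finsupp.single_eq_of_ne (fun e => hl (hinj l j s' hcl (hc.trans (congrArg some (by exact e))))), mul_zero,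
        mul_zero]
  · simp

include hd hD in
theorem nonempty_logMod : Nonempty (LogNCD.LogMod d D) := by
  classical
  haveI := mono_incl hd hD (D := D)
  refine ⟨⟨logForms hd hD, inclLog hd hD, fun i => resPart hd hD ≫ Pi.π (fun i => ClSub.quotMod (D i)) i,
    mono_of_mono_fac (inclLog_polePart hd hD), fun i => by rw [← Category.assoc, inclLog_resPart, zero_comp],
    fun U g hg => ⟨fun x hx => torsionFree_logForms hd hD U g hg x hx, ?_⟩⟩⟩
  choose dl hdl1 hdl2 using exists_dl hd hD U g hg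
  refine ⟨dl, fun i => ?_, ?_, fun i => ?_, fun i j hij => ?_⟩
  · refine logForms_ext hd hD ?_ ?_
    · refine (Scheme.Modules.Hom.app_smul (polePart hd hD) (g i) (dl i)).trans ?_
      rw [hdl1, IsEqs.smul_dlog hd hD hg i]
      exact (congrArg (fun φ : Ω' ⟶ poles Ω' D => φ.app U.1 (d.app U.1 (g i))) (inclLog_polePart hd hD)).symm
    · refine (Scheme.Modules.Hom.app_smul (resPart hd hD) (g i) (dl i)).trans ?_
      refine Eq.trans ?_ (congrArg (fun φ : Ω' ⟶ ∏ᶜ fun i => ClSub.quotMod (D i) => φ.app U.1 (d.app U.1 (g i)))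
        (inclLog_resPart hd hD)).symm
      show g i • (resPart hd hD).app U.1 (dl i) = 0
      refine LogLoc97.prod_sections_ext _ _ fun j => ?_
      rw [Scheme.Modules.Hom.app_smul, hdl2, map_zero]
      split_ifs with e
      · subst e
        rw [← LogLoc97.toSubscheme_app_eq]
        have hgi : g i ∈ (D i).ideal U := hg i ▸ Ideal.mem_span_singleton_self _
        rw [← (D i).ker_subschemeι_app U] at hgi
        exact hgi
      · rw [smul_zero]
  · refine eq_top_iff.mpr fun x _ => ?_
    obtain ⟨ω, a, rfl⟩ := exists_decomp_logForms hd hD U g dl hdl2 x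
    exact add_mem (Submodule.subset_span (Or.inl ⟨ω, rfl⟩))
      (sum_mem fun i _ => Submodule.smul_mem _ _ (Submodule.subset_span (Or.inr ⟨i, rfl⟩)))
  · refine Eq.trans ?_ (if_pos rfl : (if i = i then LogNCD.oneOn (D i) U.1 else 0) = _)
    exact hdl2 i i
  · refine Eq.trans (hdl2 i j) ?_
    rw [if_neg hij]

end Groth.Agent.CAlg8.LogExist
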