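import Groth.Agent.LogLoc97.Chart
import Groth.Agent.Curves2.IdealFrame
import Groth.Agent.CycCov52.Divisor
import Groth.Agent.QC70.HomMod
import Groth.Agent.Omega57.Diag

/-! Forms with simple poles along a normal crossing divisor, `Hom(O(-D), Ω)`. -/

set_option autoImplicit false
set_option maxHeartbeats 800000
set_option backward.isDefEq.respectTransparency false
set_option backward.isDefEq.respectTransparency.types false
set_option linter.style.haveILetI false

universe u

noncomputable section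

open CategoryTheory CategoryTheory.Limits AlgebraicGeometry TopologicalSpace Opposite
open Groth.Agent Groth.Agent.QC70
open scoped nonZeroDivisors

namespace Groth.Agent.CAlg8.LogExist

variable {X S : Scheme.{u}} {f : X ⟶ S} [Smooth f] {Ω' : X.Modules} {d : OmegaSh.Der f Ω'}
  (hd : OmegaSh.IsUniversal d) {r : ℕ} {D : Fin r → X.IdealSheafData} (hD : LogNCD.IsNCD D f)

/-- `g` are equations of the components on the affine open `U`. -/
def IsEqs (D : Fin r → X.IdealSheafData) (U : X.affineOpens) (g : Fin r → Γ(X, U.1)) : Prop :=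
  ∀ i, (D i).ideal U = Ideal.span {g i}

theorem IsEqs.restrict {U V : X.affineOpens} {g : Fin r → Γ(X, U.1)} (hg : IsEqs D U g) (h : V.1 ≤ U.1) :
    IsEqs D V fun i => resO X h (g i) := fun i => Div89.ideal_res_span h (hg i)

include hd hD in
/-- Around a point: equations which are coordinates or `1`, with a basis of differentials. -/
theorem exists_adapted (U : X.Opens) {x : X} (hx : x ∈ U) :
    ∃ (V : X.affineOpens) (_ : V.1 ≤ U) (σ : Type u) (b : Module.Basis σ Γ(X, V.1) Γ(Ω', V.1))
      (h : Fin r → Γ(X, V.1)) (c : Fin r → Option σ), x ∈ V.1 ∧ IsEqs D V h ∧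
      (∀ i, h i ∈ Γ(X, V.1)⁰) ∧ (∀ i, c i = none → h i = 1) ∧ (∀ i s, c i = some s → b s = d.app V.1 (h i)) ∧
      ∀ i j s, c i = some s → c j = some s → i = j := by
  classical
  by_cases hT : Nonempty (LogNCD.Through D x)
  · obtain ⟨W, hxW, n, v, e, he, het, hthr, hoff⟩ := hD x hT
    obtain ⟨A, hA, hfxA, -⟩ := exists_isAffineOpen_mem_and_subset (X := S) (x := f x) (U := ⊤) trivial
    obtain ⟨V, hV, hxV, hle⟩ := exists_isAffineOpen_mem_and_subset (x := x) (U := U ⊓ W ⊓ f ⁻¹ᵁ A)
      ⟨⟨hx, hxW⟩, hfxA⟩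
    have hVW : V ≤ W := fun y hy => (hle hy).1.2
    have hVA : V ≤ f ⁻¹ᵁ A := fun y hy => (hle hy).2
    obtain ⟨b, hb⟩ := LogLoc97.exists_basis_dcoord hd v ⟨A, hA⟩ hV hVW hVA
    obtain ⟨φ, hφ, -, hφX⟩ := LogLoc97.exists_coordHom f v ⟨A, hA⟩ hV hVW hVA
    have hflat : φ.Flat := by
      algebraize [φ]
      exact RingHom.flat_algebraMap_iff.2 inferInstance
    refine ⟨⟨V, hV⟩, fun y hy => (hle hy).1.1, ULift.{u} (Fin n), b,
      fun i => if hi : x ∈ (D i).support then LogNCD.sectOn W hVW (v (ULift.up (e ⟨i, hi⟩))) else 1,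
      fun i => if hi : x ∈ (D i).support then some (ULift.up (e ⟨i, hi⟩)) else none, hxV, fun i => ?_,
      fun i => ?_, fun i h => ?_, fun i s h => ?_, fun i j s h h' => ?_⟩
    · by_cases hi : x ∈ (D i).support
      · simp only [dif_pos hi]
        exact hthr ⟨i, hi⟩ ⟨V, hV⟩ hVW
      · simp only [dif_neg hi, Ideal.span_singleton_one]
        exact hoff i hi ⟨V, hV⟩ hVW
    · by_cases hi : x ∈ (D i).support
      · simp only [dif_pos hi, ← hφX]
        refine mem_nonZeroDivisors_iff_right.2 fun a ha => ?_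
        exact (NCDLift3.regular_and_flat_quotient φ hflat _).1 a (by rwa [mul_comm] at ha)
      · simp only [dif_neg hi]
        exact one_mem _
    · by_cases hi : x ∈ (D i).support
      · simp [hi] at h
      · simp only [dif_neg hi]
    · by_cases hi : x ∈ (D i).support
      · simp only [dif_pos hi, Option.some.injEq] at h
        simp only [dif_pos hi, ← h, hb]
      · simp [hi] at h
    · by_cases hi : x ∈ (D i).support
      · by_cases hj : x ∈ (D j).support
        · simp only [dif_pos hi, Option.some.injEq] at h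
          simp only [dif_pos hj, Option.some.injEq] at h'
          exact congrArg Subtype.val (he (ULift.up_injective (h.trans h'.symm)))
        · simp [hj] at h'
      · simp [hi] at h
  · have hoff : ∀ i, x ∈ (D i).support.compl := fun i hi => hT ⟨⟨i, hi⟩⟩
    haveI : LocallyOfFinitePresentation f := inferInstance
    have hs : x ∈ f.smoothLocus := by rw [f.smoothLocus_eq_top]; trivial
    obtain ⟨U₀, m, hxU₀, ⟨iso⟩, -⟩ :=
      SchBasics.exists_free_nhd_of_formallySmooth_stalk hd x (Scheme.Hom.mem_smoothLocus.1 hs)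
    let V₀ : X.Opens := (U ⊓ U₀) ⊓ Finset.univ.inf fun i => (D i).support.compl
    have hV₀ : x ∈ V₀ := ⟨⟨hx, hxU₀⟩, by
      rw [Opens.coe_finset_inf, Finset.inf_set_eq_iInter]
      exact Set.mem_iInter₂.2 fun i _ => hoff i⟩
    obtain ⟨V, hV, hxV, hle⟩ := exists_isAffineOpen_mem_and_subset (x := x) (U := V₀) hV₀
    obtain ⟨b₀⟩ := Var76.OmegaRegular.sections_free iso (W := V) fun y hy => (hle hy).1.2
    refine ⟨⟨V, hV⟩, fun y hy => (hle hy).1.1, ULift.{u} (Fin m),
      (Module.Basis.ofEquivFun b₀.symm).reindex Equiv.ulift.symm,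
      fun _ => 1, fun _ => none, hxV, fun i => ?_, fun i => one_mem _, fun i _ => rfl,
      fun i s h => by simp at h, fun i j s h => by simp at h⟩
    rw [Ideal.span_singleton_one]
    refine LogLoc97.ideal_eq_top_of_disjoint _ _ (Set.disjoint_left.2 fun z hzD hzU => ?_)
    exact (Finset.inf_le (f := fun i => (D i).support.compl) (Finset.mem_univ i) (hle hzU).2) hzD

include hd hD in
theorem IsEqs.mem_nonZeroDivisors {U : X.affineOpens} {g : Fin r → Γ(X, U.1)} (hg : IsEqs D U g) (i : Fin r) :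
    g i ∈ Γ(X, U.1)⁰ := by
  refine Div89.mem_nonZeroDivisors_of_germ U _ fun x hx => ?_
  obtain ⟨V, hVU, σ, b, h, c, hxV, hh, hreg, -⟩ := exists_adapted hd hD U.1 hx
  have h1 := Div89.generator_mem_nonZeroDivisors (hreg i) (((hg.restrict hVU) i).symm.trans (hh i))
  have h2 := Div89.germ_mem_nonZeroDivisors V h1 x hxV
  rwa [Div89.germ_res_affine hVU x hxV] at h2

include hd hD in
/-- Forms are torsion free. -/
theorem omega_torsionFree (U : X.affineOpens) {a : Γ(X, U.1)} (ha : a ∈ Γ(X, U.1)⁰) (w : Γ(Ω', U.1))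
    (h : a • w = 0) : w = 0 := by
  refine section_ext _ _ _ fun x hx => ?_
  obtain ⟨V, hVU, σ, b, -, -, hxV, -⟩ := exists_adapted hd hD U.1 hx
  refine ⟨V.1, hVU, hxV, ?_⟩
  rw [res_zero]
  refine b.ext_elem fun s => ?_
  rw [map_zero]
  have h1 := congrArg (fun z => b.repr (res Ω' hVU z) s) h
  simp only [res_smul, res_zero, map_smul, map_zero, Finsupp.smul_apply, Finsupp.coe_zero, Pi.zero_apply,
    smul_eq_mul] at h1
  rw [mul_comm] at h1
  exact (mem_nonZeroDivisors_iff_right.1 (Div89.res_mem_nonZeroDivisors hVU ha)) _ h1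

variable (D) in
/-- The ideal of the divisor. -/
abbrev divisor : X.IdealSheafData := ∏ j, D j

theorem IsEqs.divisor_ideal {U : X.affineOpens} {g : Fin r → Γ(X, U.1)} (hg : IsEqs D U g) :
    (divisor D).ideal U = Ideal.span {∏ j, g j} := by
  classical
  rw [CycCov52.ideal_prod, Finset.prod_congr rfl fun j _ => hg j, Ideal.prod_span_singleton]

theorem IsEqs.exists_gen {U : X.affineOpens} {g : Fin r → Γ(X, U.1)} (hg : IsEqs D U g) :
    ∃ e : Γ(ClSub.idealMod (divisor D), U.1), OmegaSh.idealSect (divisor D) U.1 e = ∏ j, g j :=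
  Curves2.exists_idealSect_of_mem _ U (hg.divisor_ideal ▸ Ideal.mem_span_singleton_self _)

/-- The equation of the divisor as a section of its ideal. -/
def IsEqs.gen {U : X.affineOpens} {g : Fin r → Γ(X, U.1)} (hg : IsEqs D U g) :
    Γ(ClSub.idealMod (divisor D), U.1) := hg.exists_gen.choose

theorem IsEqs.idealSect_gen {U : X.affineOpens} {g : Fin r → Γ(X, U.1)} (hg : IsEqs D U g) :
    OmegaSh.idealSect (divisor D) U.1 hg.gen = ∏ j, g j := hg.exists_gen.choose_spec

theorem IsEqs.gen_restrict {U V : X.affineOpens} {g : Fin r → Γ(X, U.1)} (hg : IsEqs D U g) (h : V.1 ≤ U.1) :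
    res (ClSub.idealMod (divisor D)) h hg.gen = (hg.restrict h).gen := by
  refine Omega57.idealSect_injective _ _ ?_
  rw [IsEqs.idealSect_gen, show (∏ j, resO X h (g j)) = resO X h (∏ j, g j) from (map_prod _ _ _).symm,
    ← hg.idealSect_gen]
  exact OmegaSh.idealModι_app_map U.1 (divisor D) h hg.gen

include hd hD in
theorem IsEqs.prod_mem_nonZeroDivisors {U : X.affineOpens} {g : Fin r → Γ(X, U.1)} (hg : IsEqs D U g) :
    (∏ j, g j) ∈ Γ(X, U.1)⁰ :=
  prod_mem fun i _ => hg.mem_nonZeroDivisors hd hD i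

variable (Ω' D) in
/-- Forms with poles bounded by the divisor. -/
abbrev poles : X.Modules := homMod (ClSub.idealMod (divisor D)) Ω'

variable (Ω' D) in
/-- The inclusion of the forms without poles. -/
def incl : Ω' ⟶ poles Ω' D :=
  HomOn.toHom
    { app := fun W _ =>
        { toFun := fun ω => HomOn.toSec
            { app := fun V hV =>
                { toFun := fun p => OmegaSh.idealSect (divisor D) V p • res Ω' hV ω
                  map_add' := fun p q => by rw [map_add, add_smul]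
                  map_smul' := fun a p => by rw [Omega57.idealSect_smul, mul_smul]; rfl }
              app_res := fun {V V'} hV hle p => by
                show OmegaSh.idealSect (divisor D) V' (res _ hle p) • res Ω' (hle.trans hV) ω =
                  res Ω' hle (OmegaSh.idealSect (divisor D) V p • res Ω' hV ω)
                rw [res_smul, res_res]
                exact congrArg (· • _) (OmegaSh.idealModι_app_map V (divisor D) hle p) }
          map_add' := fun ω ω' => HomOn.ext' fun V hV p => by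
            show OmegaSh.idealSect (divisor D) V p • res Ω' hV (ω + ω') = _
            rw [res_add, smul_add]
            rfl
          map_smul' := fun a ω => HomOn.ext' fun V hV p => by
            show OmegaSh.idealSect (divisor D) V p • res Ω' hV (a • ω) =
              resO X hV a • (OmegaSh.idealSect (divisor D) V p • res Ω' hV ω)
            rw [res_smul, smul_comm] }
      app_res := fun {W W'} _ hle ω => HomOn.ext' fun V hV p => by
        show OmegaSh.idealSect (divisor D) V p • res Ω' hV (res Ω' hle ω) =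
          OmegaSh.idealSect (divisor D) V p • res Ω' (hV.trans hle) ω
        rw [res_res] }

theorem incl_app_app {W V : X.Opens} (hV : V ≤ W) (ω : Γ(Ω', W)) (p : Γ(ClSub.idealMod (divisor D), V)) :
    (ofSec ((incl Ω' D).app W ω)).app V hV p = OmegaSh.idealSect (divisor D) V p • res Ω' hV ω := rfl

/-- Evaluation at the equation of the divisor. -/
def IsEqs.ev {U : X.affineOpens} {g : Fin r → Γ(X, U.1)} (hg : IsEqs D U g) :
    Γ(poles Ω' D, U.1) →ₗ[Γ(X, U.1)] Γ(Ω', U.1) where
  toFun φ := (ofSec φ).app U.1 le_rfl hg.gen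
  map_add' φ ψ := rfl
  map_smul' a φ := by
    show resO X le_rfl a • (ofSec φ).app U.1 le_rfl hg.gen = _
    rw [resO_self]
    rfl

theorem IsEqs.ev_incl {U : X.affineOpens} {g : Fin r → Γ(X, U.1)} (hg : IsEqs D U g) (ω : Γ(Ω', U.1)) :
    hg.ev ((incl Ω' D).app U.1 ω) = (∏ j, g j) • ω := by
  show (ofSec ((incl Ω' D).app U.1 ω)).app U.1 le_rfl hg.gen = _
  rw [incl_app_app, hg.idealSect_gen, res_self]

theorem IsEqs.ev_restrict {U V : X.affineOpens} {g : Fin r → Γ(X, U.1)} (hg : IsEqs D U g) (h : V.1 ≤ U.1)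
    (φ : Γ(poles Ω' D, U.1)) :
    (hg.restrict h).ev (res (poles Ω' D) h φ) = res Ω' h (hg.ev φ) := by
  show (ofSec (res (poles Ω' D) h φ)).app V.1 le_rfl (hg.restrict h).gen = _
  rw [homMod_res_app, ← hg.gen_restrict h]
  exact (ofSec φ).app_res le_rfl h hg.gen

include hd hD in
theorem IsEqs.ev_injective {U : X.affineOpens} {g : Fin r → Γ(X, U.1)} (hg : IsEqs D U g) :
    Function.Injective (hg.ev (Ω' := Ω')) := by
  intro φ ψ h
  haveI : (ClSub.idealMod (divisor D)).IsQuasicoherent := Omega57.isQuasicoherent_idealMod _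
  have hfr := Curves2.isFrame_of_span (divisor D) U (hg.prod_mem_nonZeroDivisors hd hD) hg.divisor_ideal hg.gen
    hg.idealSect_gen
  refine HomOn.ext' fun W hW p => HomOn.ext_of_affine U.2 (isLocAt_of_isQuasicoherent _ U.2) (ofSec φ) (ofSec ψ)
    (LinearMap.ext fun q => ?_) hW p
  obtain ⟨a, ha⟩ := (hfr U.1 le_rfl).2 q
  rw [← ha, map_smul, map_smul]
  refine congrArg (a • ·) ?_
  rw [show Var76.LineBundle.res (ClSub.idealMod (divisor D)) le_rfl hg.gen = hg.gen from res_self _]
  exact h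

include hd hD in
theorem IsEqs.ev_surjective {U : X.affineOpens} {g : Fin r → Γ(X, U.1)} (hg : IsEqs D U g) :
    Function.Surjective (hg.ev (Ω' := Ω')) := by
  intro w
  haveI : (ClSub.idealMod (divisor D)).IsQuasicoherent := Omega57.isQuasicoherent_idealMod _
  have hfr := Curves2.isFrame_of_span (divisor D) U (hg.prod_mem_nonZeroDivisors hd hD) hg.divisor_ideal hg.gen
    hg.idealSect_gen
  let E₀ : Γ(X, U.1) →ₗ[Γ(X, U.1)] Γ(ClSub.idealMod (divisor D), U.1) := LinearMap.toSpanSingleton _ _ hg.gen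
  have hE : Function.Bijective E₀ := by
    have h0 := hfr U.1 le_rfl
    rw [show Var76.LineBundle.res (ClSub.idealMod (divisor D)) le_rfl hg.gen = hg.gen from res_self _] at h0
    exact h0
  let l := (LinearMap.toSpanSingleton Γ(X, U.1) Γ(Ω', U.1) w) ∘ₗ (LinearEquiv.ofBijective E₀ hE).symm.toLinearMap
  refine ⟨(HomOn.ofLinear U.2 l).toSec, ?_⟩
  show (HomOn.ofLinear U.2 l).app U.1 le_rfl hg.gen = w
  rw [HomOn.ofLinear_app_self]
  have h1 : (LinearEquiv.ofBijective E₀ hE).symm hg.gen = 1 :=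
    (LinearEquiv.ofBijective E₀ hE).injective
      ((LinearEquiv.apply_symm_apply _ _).trans (one_smul Γ(X, U.1) hg.gen).symm)
  show (LinearEquiv.ofBijective E₀ hE).symm hg.gen • w = w
  rw [h1, one_smul]

include hd hD in
theorem mono_incl : Mono (incl Ω' D) := by
  refine mono_of_app_injective _ fun W a b h => ?_
  refine section_ext _ _ _ fun x hx => ?_
  obtain ⟨U, hUW, hxU, g, hg⟩ := LogLoc97.exists_principal_affine hD W hx
  refine ⟨U.1, hUW, hxU, ?_⟩
  have h1 := congrArg (res (poles Ω' D) hUW) h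
  rw [← app_res, ← app_res] at h1
  have h2 := congrArg (IsEqs.ev (Ω' := Ω') hg) h1
  rw [IsEqs.ev_incl, IsEqs.ev_incl, ← sub_eq_zero, ← smul_sub] at h2
  exact sub_eq_zero.1 (omega_torsionFree hd hD U (IsEqs.prod_mem_nonZeroDivisors hd hD hg) _ h2)

/-- The logarithmic differential of an equation. -/
def IsEqs.dlog {U : X.affineOpens} {g : Fin r → Γ(X, U.1)} (hg : IsEqs D U g) (i : Fin r) :
    Γ(poles Ω' D, U.1) :=
  (hg.ev_surjective hd hD ((∏ j ∈ Finset.univ.erase i, g j) • d.app U.1 (g i))).choose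

theorem IsEqs.ev_dlog {U : X.affineOpens} {g : Fin r → Γ(X, U.1)} (hg : IsEqs D U g) (i : Fin r) :
    hg.ev (hg.dlog hd hD i) = (∏ j ∈ Finset.univ.erase i, g j) • d.app U.1 (g i) :=
  (hg.ev_surjective hd hD _).choose_spec

include hd hD in
theorem IsEqs.smul_dlog {U : X.affineOpens} {g : Fin r → Γ(X, U.1)} (hg : IsEqs D U g) (i : Fin r) :
    g i • hg.dlog hd hD i = (incl Ω' D).app U.1 (d.app U.1 (g i)) := by
  refine hg.ev_injective hd hD ?_
  rw [map_smul, hg.ev_dlog, hg.ev_incl, smul_smul, Finset.mul_prod_erase _ g (Finset.mem_univ i)]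

include hd hD in
theorem IsEqs.dlog_restrict {U V : X.affineOpens} {g : Fin r → Γ(X, U.1)} (hg : IsEqs D U g) (h : V.1 ≤ U.1)
    (i : Fin r) : res (poles Ω' D) h (hg.dlog hd hD i) = (hg.restrict h).dlog hd hD i := by
  refine (hg.restrict h).ev_injective hd hD ?_
  rw [hg.ev_restrict, hg.ev_dlog, IsEqs.ev_dlog, res_smul, ← Var76.OmegaUniv.Der.res]
  refine congrArg (· • _) ?_
  exact map_prod _ _ _

include hd hD in
/-- Changing the equations changes `dlog` by a form without poles. -/
theorem IsEqs.dlog_congr {U : X.affineOpens} {g g' : Fin r → Γ(X, U.1)} (hg : IsEqs D U g) (hg' : IsEqs D U g')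
    (i : Fin r) : ∃ ω : Γ(Ω', U.1), hg'.dlog hd hD i = hg.dlog hd hD i + (incl Ω' D).app U.1 ω := by
  classical
  have hu : ∀ j, ∃ u : (Γ(X, U.1))ˣ, g' j = u * g j := fun j => by
    obtain ⟨a, ha⟩ := Ideal.mem_span_singleton'.1 ((hg j).symm.trans (hg' j) ▸ Ideal.mem_span_singleton_self (g j) :
      g j ∈ Ideal.span {g' j})
    obtain ⟨b, hb⟩ := Ideal.mem_span_singleton'.1 ((hg' j).symm.trans (hg j) ▸ Ideal.mem_span_singleton_self (g' j) :
      g' j ∈ Ideal.span {g j})
    have h1 : a * b = 1 := by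
      refine sub_eq_zero.1 (mem_nonZeroDivisors_iff_right.1 (hg.mem_nonZeroDivisors hd hD j) _ ?_)
      rw [sub_mul, one_mul, mul_assoc, hb, ha, sub_self]
    exact ⟨Units.mkOfMulEqOne b a (by rw [mul_comm]; exact h1), by rw [Units.val_mkOfMulEqOne, hb]⟩
  choose u hu using hu
  refine ⟨((u i)⁻¹ : (Γ(X, U.1))ˣ).val • d.app U.1 (u i : Γ(X, U.1)), hg.ev_injective hd hD ?_⟩
  let Uu : (Γ(X, U.1))ˣ := ∏ j, u j
  have hgen : hg'.gen = (Uu : Γ(X, U.1)) • hg.gen := by
    refine Omega57.idealSect_injective _ _ ?_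
    rw [Omega57.idealSect_smul, hg.idealSect_gen, hg'.idealSect_gen, Units.coe_prod, ← Finset.prod_mul_distrib]
    exact Finset.prod_congr rfl fun j _ => hu j
  have h1 : ∀ φ : Γ(poles Ω' D, U.1), hg'.ev φ = (Uu : Γ(X, U.1)) • hg.ev φ := fun φ => by
    show (ofSec φ).app U.1 le_rfl hg'.gen = _
    rw [hgen, map_smul]
    rfl
  refine Uu.isUnit.smul_left_cancel.1 ?_
  rw [← h1, hg'.ev_dlog, map_add, hg.ev_dlog, hg.ev_incl, smul_add, smul_smul, smul_smul, smul_smul]
  have h2 : d.app U.1 (g' i) = (u i : Γ(X, U.1)) • d.app U.1 (g i) + g i • d.app U.1 (u i : Γ(X, U.1)) := by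
    rw [hu i, Var76.OmegaUniv.Der.map_mul]
  have h3 : (∏ j ∈ Finset.univ.erase i, g' j) * (u i : Γ(X, U.1)) =
      (Uu : Γ(X, U.1)) * ∏ j ∈ Finset.univ.erase i, g j := by
    rw [Units.coe_prod, ← Finset.mul_prod_erase _ (fun j => (u j : Γ(X, U.1))) (Finset.mem_univ i),
      Finset.prod_congr rfl fun j _ => hu j, Finset.prod_mul_distrib]
    ring
  have h4 : (∏ j ∈ Finset.univ.erase i, g' j) * g i =
      (Uu : Γ(X, U.1)) * (∏ j, g j) * ((u i)⁻¹ : (Γ(X, U.1))ˣ).val := by
    rw [← Finset.mul_prod_erase _ g (Finset.mem_univ i)]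
    calc (∏ j ∈ Finset.univ.erase i, g' j) * g i
        = g i * ((∏ j ∈ Finset.univ.erase i, g' j) * (u i : Γ(X, U.1))) * ((u i)⁻¹ : (Γ(X, U.1))ˣ).val := by
          rw [mul_assoc (g i), mul_assoc (∏ j ∈ Finset.univ.erase i, g' j), Units.mul_inv, mul_one, mul_comm]
      _ = _ := by rw [h3]; ring
  rw [h2, smul_add, smul_smul, smul_smul, h3, h4]

end Groth.Agent.CAlg8.LogExist
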