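import Groth.Agent.CAlg8.LogExist.Poles
import Groth.Agent.QC70.Closure
import Mathlib.Topology.Sheaves.SheafCondition.UniqueGluing

/-! The residue maps `O_{D_i} → Hom(O(-D), Ω) / Ω`. -/

set_option autoImplicit false
set_option maxHeartbeats 800000
set_option backward.isDefEq.respectTransparency false
set_option backward.isDefEq.respectTransparency.types false
set_option linter.style.haveILetI false

universe u

noncomputable section

open CategoryTheory CategoryTheory.Limits AlgebraicGeometry TopologicalSpace Opposite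
open Groth.Agent Groth.Agent.QC70
open scoped nonZeroDivisors

namespace Groth.Agent.CAlg8.LogExist

variable {X S : Scheme.{u}} {f : X ⟶ S} [Smooth f] {Ω' : X.Modules} {d : OmegaSh.Der f Ω'}
  (hd : OmegaSh.IsUniversal d) {r : ℕ} {D : Fin r → X.IdealSheafData} (hD : LogNCD.IsNCD D f)

variable (Ω' D) in
/-- Principal parts. -/
abbrev prinParts : X.Modules := cokernel (incl Ω' D)

variable (Ω' D) in
/-- The projection to principal parts. -/
abbrev toPrin : poles Ω' D ⟶ prinParts Ω' D := cokernel.π (incl Ω' D)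

theorem toPrin_incl {W : X.Opens} (ω : Γ(Ω', W)) : (toPrin Ω' D).app W ((incl Ω' D).app W ω) = 0 :=
  congrArg (fun φ : Ω' ⟶ prinParts Ω' D => φ.app W ω) (cokernel.condition (incl Ω' D))

/-- The principal part of `dlog g_i`. -/
def IsEqs.cls {U : X.affineOpens} {g : Fin r → Γ(X, U.1)} (hg : IsEqs D U g) (i : Fin r) :
    Γ(prinParts Ω' D, U.1) :=
  (toPrin Ω' D).app U.1 (hg.dlog hd hD i)

include hd hD in
theorem IsEqs.cls_congr {U : X.affineOpens} {g g' : Fin r → Γ(X, U.1)} (hg : IsEqs D U g) (hg' : IsEqs D U g')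
    (i : Fin r) : hg'.cls hd hD i = hg.cls hd hD i := by
  obtain ⟨ω, hω⟩ := hg.dlog_congr hd hD hg' i
  show (toPrin Ω' D).app U.1 (hg'.dlog hd hD i) = _
  rw [hω, map_add, toPrin_incl, add_zero]
  rfl

include hd hD in
theorem IsEqs.res_cls {U V : X.affineOpens} {g : Fin r → Γ(X, U.1)} (hg : IsEqs D U g) (h : V.1 ≤ U.1)
    (i : Fin r) : res (prinParts Ω' D) h (hg.cls hd hD i) = (hg.restrict h).cls hd hD i := by
  show res (prinParts Ω' D) h ((toPrin Ω' D).app U.1 (hg.dlog hd hD i)) = _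
  rw [← app_res, hg.dlog_restrict hd hD h]
  rfl

include hd hD in
theorem exists_global_cls (i : Fin r) :
    ∃ s : Γ(prinParts Ω' D, ⊤), ∀ (U : X.affineOpens) (g : Fin r → Γ(X, U.1)) (hg : IsEqs D U g),
      res (prinParts Ω' D) le_top s = hg.cls hd hD i := by
  let I := {U : X.affineOpens // ∃ g, IsEqs D U g}
  let G : ∀ a : I, Fin r → Γ(X, a.1.1) := fun a => a.2.choose
  have hG : ∀ a : I, IsEqs D a.1 (G a) := fun a => a.2.choose_spec
  have hcov : (⊤ : X.Opens) ≤ ⨆ a : I, a.1.1 := fun x _ => by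
    obtain ⟨U, -, hxU, g, hg⟩ := LogLoc97.exists_principal_affine hD ⊤ (x := x) trivial
    exact Opens.mem_iSup.2 ⟨⟨U, g, hg⟩, hxU⟩
  have hcompat : TopCat.Presheaf.IsCompatible (prinParts Ω' D).presheaf (fun a : I => a.1.1)
      (fun a => (hG a).cls hd hD i) := by
    intro a b
    refine section_ext (prinParts Ω' D) _ _ fun x hx => ?_
    obtain ⟨V, hV, hxV, hle⟩ := exists_isAffineOpen_mem_and_subset (x := x) (U := a.1.1 ⊓ b.1.1) hx
    refine ⟨V, hle, hxV, ?_⟩
    show res _ (hle : V ≤ _) (res _ (inf_le_left : a.1.1 ⊓ b.1.1 ≤ _) _) =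
      res _ (hle : V ≤ _) (res _ (inf_le_right : a.1.1 ⊓ b.1.1 ≤ _) _)
    rw [res_res, res_res, (hG a).res_cls hd hD (V := ⟨V, hV⟩), (hG b).res_cls hd hD (V := ⟨V, hV⟩)]
    exact IsEqs.cls_congr hd hD _ _ i
  obtain ⟨(s : Γ(prinParts Ω' D, ⊤)), hs, -⟩ := TopCat.Sheaf.existsUnique_gluing'
    ⟨_, (prinParts Ω' D).isSheaf⟩ (fun a : I => a.1.1) ⊤ (fun a => homOfLE le_top) hcov _ hcompat
  refine ⟨s, fun U g hg => ?_⟩
  have h1 : res (prinParts Ω' D) le_top s = (hG ⟨U, g, hg⟩).cls hd hD i := hs ⟨U, g, hg⟩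
  exact h1.trans (IsEqs.cls_congr hd hD hg _ i)

/-- Multiplication with a global section. -/
def ofGlobal {M : X.Modules} (s : Γ(M, ⊤)) : Coh.structureModule X ⟶ M :=
  HomOn.toHom
    { app := fun W _ => LinearMap.toSpanSingleton Γ(X, W) Γ(M, W) (res M le_top s)
      app_res := fun {W W'} _ hle a => by
        show resO X hle a • res M le_top s = res M hle ((show Γ(X, W) from a) • res M le_top s)
        rw [res_smul, res_res] }

theorem ofGlobal_app {M : X.Modules} (s : Γ(M, ⊤)) (W : X.Opens) (a : Γ(X, W)) :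
    (ofGlobal s).app W a = a • res M le_top s := rfl

include hd hD in
theorem exists_coeffMap (i : Fin r) :
    ∃ c : ClSub.quotMod (D i) ⟶ prinParts Ω' D, ∀ (U : X.affineOpens) (g : Fin r → Γ(X, U.1)) (hg : IsEqs D U g),
      c.app U.1 (LogNCD.oneOn (D i) U.1) = hg.cls hd hD i := by
  obtain ⟨s, hs⟩ := exists_global_cls hd hD i
  have hzero : ClSub.idealModι (D i) ≫ ofGlobal s = 0 := by
    ext W p
    refine section_ext _ _ _ fun x hx => ?_
    obtain ⟨U, hUW, hxU, g, hg⟩ := LogLoc97.exists_principal_affine hD W hx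
    refine ⟨U.1, hUW, hxU, ?_⟩
    show res (prinParts Ω' D) hUW ((ofGlobal s).app W ((ClSub.idealModι (D i)).app W p)) = res _ hUW 0
    rw [res_zero, ← app_res, ← app_res, ofGlobal_app, hs U g hg]
    have hm := Curves2.idealSect_mem_ideal (D i) U (res (ClSub.idealMod (D i)) hUW p)
    rw [hg i, Ideal.mem_span_singleton'] at hm
    obtain ⟨a, ha⟩ := hm
    show OmegaSh.idealSect (D i) U.1 (res _ hUW p) • IsEqs.cls hd hD hg i = 0
    rw [← ha, mul_smul, IsEqs.cls, ← Scheme.Modules.Hom.app_smul, IsEqs.smul_dlog hd hD hg, toPrin_incl, smul_zero]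
  have hS := Crv77.idealSeq_shortExact (D i)
  haveI := hS.epi_g
  refine ⟨hS.exact.desc (ofGlobal s) hzero, fun U g hg => ?_⟩
  refine (congrArg (fun φ : Coh.structureModule X ⟶ prinParts Ω' D => φ.app U.1 (1 : Γ(X, U.1)))
    (hS.exact.g_desc (ofGlobal s) hzero)).trans ?_
  rw [ofGlobal_app, one_smul]
  exact hs U g hg

/-- The coefficient of `dlog`, as a map to principal parts. -/
def coeffMap (i : Fin r) : ClSub.quotMod (D i) ⟶ prinParts Ω' D := (exists_coeffMap hd hD i).choose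

theorem coeffMap_one (i : Fin r) (U : X.affineOpens) (g : Fin r → Γ(X, U.1)) (hg : IsEqs D U g) :
    (coeffMap hd hD i).app U.1 (LogNCD.oneOn (D i) U.1) = hg.cls hd hD i :=
  (exists_coeffMap hd hD i).choose_spec U g hg

/-- `⊕ O_{D_i} → ` principal parts. -/
def coeffSum : (∏ᶜ fun i => ClSub.quotMod (D i)) ⟶ prinParts Ω' D :=
  ∑ i, Pi.π (fun i => ClSub.quotMod (D i)) i ≫ coeffMap hd hD i

/-- Evaluation of a sum of morphisms. -/
theorem sum_app {M N : X.Modules} {ι : Type*} (s : Finset ι) (φ : ι → (M ⟶ N)) (U : X.Opens) (t : Γ(M, U)) :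
    (∑ i ∈ s, φ i).app U t = ∑ i ∈ s, (φ i).app U t :=
  map_sum ({ toFun := fun ψ : M ⟶ N => ψ.app U t
             map_zero' := rfl
             map_add' := fun _ _ => rfl } : (M ⟶ N) →+ Γ(N, U)) φ s

theorem coeffSum_app (U : X.Opens) (t : Γ(∏ᶜ fun i => ClSub.quotMod (D i), U)) :
    (coeffSum hd hD).app U t = ∑ i, (coeffMap hd hD i).app U ((Pi.π (fun i => ClSub.quotMod (D i)) i).app U t) := by
  rw [coeffSum, sum_app]
  rfl

include hd hD in
theorem coeffSum_of_coords (U : X.affineOpens) (g : Fin r → Γ(X, U.1)) (hg : IsEqs D U g) (a : Fin r → Γ(X, U.1))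
    (t : Γ(∏ᶜ fun i => ClSub.quotMod (D i), U.1))
    (ht : ∀ i, (Pi.π (fun i => ClSub.quotMod (D i)) i).app U.1 t = a i • LogNCD.oneOn (D i) U.1) :
    (coeffSum hd hD).app U.1 t = (toPrin Ω' D).app U.1 (∑ i, a i • hg.dlog hd hD i) := by
  rw [coeffSum_app, map_sum]
  refine Finset.sum_congr rfl fun i _ => ?_
  rw [ht, Scheme.Modules.Hom.app_smul, coeffMap_one hd hD i U g hg, Scheme.Modules.Hom.app_smul]
  rfl

end Groth.Agent.CAlg8.LogExist
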