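import Groth.Agent.CAlg8.LogExist.Poles

/-! Logarithmic forms as forms with poles; logarithmic forms of a sub-family. -/

set_option autoImplicit false
set_option maxHeartbeats 800000
set_option backward.isDefEq.respectTransparency false
set_option backward.isDefEq.respectTransparency.types false
set_option linter.style.haveILetI false

universe u

noncomputable section

open CategoryTheory CategoryTheory.Limits AlgebraicGeometry TopologicalSpace Opposite
open Groth.Agent Groth.Agent.QC70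
open scoped nonZeroDivisors

namespace Groth.Agent.CAlg8.LogExist

variable {X S : Scheme.{u}} {f : X ⟶ S} [Smooth f] {Ω' : X.Modules} {d : OmegaSh.Der f Ω'}
  (hd : OmegaSh.IsUniversal d) {r : ℕ} {D : Fin r → X.IdealSheafData} (hD : LogNCD.IsNCD D f)
  {r' : ℕ} {D' : Fin r' → X.IdealSheafData} (e : Fin r' → Fin r) (he : ∀ k, D' k = D (e k))
  (Λ' : LogNCD.LogMod d D')

include he in
theorem IsEqs.comp {U : X.affineOpens} {g : Fin r → Γ(X, U.1)} (hg : IsEqs D U g) :
    IsEqs D' U (g ∘ e) := fun k => (he k).symm ▸ hg (e k)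

omit [Smooth f] in
include he in
/-- The equation of the divisor maps a logarithmic form to a form. -/
theorem prod_smul_mem (U : X.affineOpens) (g : Fin r → Γ(X, U.1)) (hg : IsEqs D U g) (x : Γ(Λ'.L, U.1)) :
    ∃ ω, Λ'.ι.app U.1 ω = (∏ j, g j) • x := by
  classical
  obtain ⟨dl, h1, -, -, hdec⟩ := LogLoc97.exists_decomp Λ' U (g ∘ e) (hg.comp e he)
  obtain ⟨ω, a, rfl⟩ := hdec x
  refine ⟨(∏ j, g j) • ω + ∑ k, (a k * ∏ j ∈ Finset.univ.erase (e k), g j) • d.app U.1 (g (e k)), ?_⟩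
  rw [smul_add, Finset.smul_sum, map_add, map_sum, Scheme.Modules.Hom.app_smul]
  refine congrArg (_ + ·) (Finset.sum_congr rfl fun k _ => ?_)
  rw [Scheme.Modules.Hom.app_smul, smul_smul, mul_comm (∏ j, g j) (a k)]
  refine (congrArg (_ • ·) (h1 k).symm).trans ?_
  rw [smul_smul]
  refine congrArg (· • dl k) ?_
  rw [← Finset.mul_prod_erase _ g (Finset.mem_univ (e k))]
  show _ * g (e k) = _
  ring

include hd hD he in
theorem exists_preimage {W : X.Opens} (p : Γ(ClSub.idealMod (divisor D), W)) (x : Γ(Λ'.L, W)) :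
    ∃ ω, Λ'.ι.app W ω = OmegaSh.idealSect (divisor D) W p • x := by
  haveI := Λ'.mono
  refine exists_app_eq_of_exact (ShortComplex.mk Λ'.ι (cokernel.π Λ'.ι) (cokernel.condition _))
    (ShortComplex.exact_of_g_is_cokernel _ (cokernelIsCokernel _)) W _ (section_ext _ _ _ fun y hy => ?_)
  obtain ⟨U, hUW, hyU, g, hg⟩ := LogLoc97.exists_principal_affine hD W hy
  refine ⟨U.1, hUW, hyU, ?_⟩
  show res _ hUW ((cokernel.π Λ'.ι).app W (OmegaSh.idealSect (divisor D) W p • x)) = res _ hUW 0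
  rw [res_zero, ← app_res, res_smul]
  have hm := Curves2.idealSect_mem_ideal (divisor D) U (res (ClSub.idealMod (divisor D)) hUW p)
  rw [IsEqs.divisor_ideal hg, Ideal.mem_span_singleton'] at hm
  obtain ⟨c, hc⟩ := hm
  have hr : resO X hUW (OmegaSh.idealSect (divisor D) W p) = c * ∏ j, g j := by
    rw [hc]
    exact (Curves2.idealSect_res (divisor D) hUW p).symm
  obtain ⟨ω, hω⟩ := prod_smul_mem e he Λ' U g hg (res Λ'.L hUW x)
  rw [hr, mul_smul, Scheme.Modules.Hom.app_smul, ← hω]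
  have h0 : (cokernel.π Λ'.ι).app U.1 (Λ'.ι.app U.1 ω) = 0 :=
    congrArg (fun φ : Ω' ⟶ _ => φ.app U.1 ω) (cokernel.condition Λ'.ι)
  rw [h0, smul_zero]

/-- The preimage. -/
def preimage {W : X.Opens} (p : Γ(ClSub.idealMod (divisor D), W)) (x : Γ(Λ'.L, W)) : Γ(Ω', W) :=
  (exists_preimage hd hD e he Λ' p x).choose

theorem ι_preimage {W : X.Opens} (p : Γ(ClSub.idealMod (divisor D), W)) (x : Γ(Λ'.L, W)) :
    Λ'.ι.app W (preimage hd hD e he Λ' p x) = OmegaSh.idealSect (divisor D) W p • x :=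
  (exists_preimage hd hD e he Λ' p x).choose_spec

theorem eq_preimage {W : X.Opens} (p : Γ(ClSub.idealMod (divisor D), W)) (x : Γ(Λ'.L, W)) (ω : Γ(Ω', W))
    (h : Λ'.ι.app W ω = OmegaSh.idealSect (divisor D) W p • x) : preimage hd hD e he Λ' p x = ω :=
  haveI := Λ'.mono
  app_injective_of_mono Λ'.ι W ((ι_preimage hd hD e he Λ' p x).trans h.symm)

/-- A logarithmic form as a form with poles. -/
def poleMap : Λ'.L ⟶ poles Ω' D :=
  HomOn.toHom
    { app := fun W _ =>
        { toFun := fun x => HomOn.toSec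
            { app := fun V hV =>
                { toFun := fun p => preimage hd hD e he Λ' p (res Λ'.L hV x)
                  map_add' := fun p q => eq_preimage hd hD e he Λ' _ _ _ (by
                    rw [map_add, ι_preimage, ι_preimage, map_add, add_smul])
                  map_smul' := fun a p => eq_preimage hd hD e he Λ' _ _ _ (by
                    rw [RingHom.id_apply, Scheme.Modules.Hom.app_smul, ι_preimage, Omega57.idealSect_smul, mul_smul]) }
              app_res := fun {V V'} hV hle p => eq_preimage hd hD e he Λ' _ _ _ (by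
                show Λ'.ι.app V' (res Ω' hle (preimage hd hD e he Λ' p (res Λ'.L hV x))) = _
                rw [app_res, ι_preimage, res_smul, res_res]
                exact congrArg (· • _) (Curves2.idealSect_res (divisor D) hle p).symm) }
          map_add' := fun x y => HomOn.ext' fun V hV p => eq_preimage hd hD e he Λ' _ _ _ (by
            show Λ'.ι.app V (preimage hd hD e he Λ' p (res Λ'.L hV x) + preimage hd hD e he Λ' p (res Λ'.L hV y)) = _
            rw [map_add, ι_preimage, ι_preimage, ← smul_add, ← res_add])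
          map_smul' := fun a x => HomOn.ext' fun V hV p => eq_preimage hd hD e he Λ' _ _ _ (by
            show Λ'.ι.app V (resO X hV a • preimage hd hD e he Λ' p (res Λ'.L hV x)) = _
            rw [Scheme.Modules.Hom.app_smul, ι_preimage, res_smul, smul_comm]) }
      app_res := fun {W W'} _ hle x => HomOn.ext' fun V hV p => eq_preimage hd hD e he Λ' _ _ _ (by
        show Λ'.ι.app V (preimage hd hD e he Λ' p (res Λ'.L (hV.trans hle) x)) = _
        rw [ι_preimage, res_res]) }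

theorem ev_poleMap {U : X.affineOpens} {g : Fin r → Γ(X, U.1)} (hg : IsEqs D U g) (x : Γ(Λ'.L, U.1)) :
    Λ'.ι.app U.1 (hg.ev ((poleMap hd hD e he Λ').app U.1 x)) = (∏ j, g j) • x := by
  refine (ι_preimage hd hD e he Λ' hg.gen (res Λ'.L le_rfl x)).trans ?_
  rw [hg.idealSect_gen, res_self]

theorem ι_poleMap : Λ'.ι ≫ poleMap hd hD e he Λ' = incl Ω' D := by
  refine Scheme.Modules.hom_ext _ _ fun W => ?_
  ext ω
  refine HomOn.ext' fun V hV p => eq_preimage hd hD e he Λ' _ _ _ ?_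
  show Λ'.ι.app V (OmegaSh.idealSect (divisor D) V p • res Ω' hV ω) = _
  rw [Scheme.Modules.Hom.app_smul, app_res]
  rfl

theorem poleMap_dl {U : X.affineOpens} {g : Fin r → Γ(X, U.1)} (hg : IsEqs D U g) (k : Fin r')
    (dl : Γ(Λ'.L, U.1)) (h1 : g (e k) • dl = Λ'.ι.app U.1 (d.app U.1 (g (e k)))) :
    (poleMap hd hD e he Λ').app U.1 dl = hg.dlog hd hD (e k) := by
  haveI := Λ'.mono
  refine hg.ev_injective hd hD (app_injective_of_mono Λ'.ι U.1 ?_)
  rw [ev_poleMap, hg.ev_dlog, Scheme.Modules.Hom.app_smul, ← h1, smul_smul,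
    ← Finset.mul_prod_erase _ g (Finset.mem_univ (e k)), mul_comm]

theorem mono_poleMap (hinj : Function.Injective e) : Mono (poleMap hd hD e he Λ') := by
  classical
  haveI := Λ'.mono
  refine mono_of_app_injective _ fun W x y hxy => section_ext _ _ _ fun z hz => ?_
  obtain ⟨U, hUW, hzU, g, hg⟩ := LogLoc97.exists_principal_affine hD W hz
  refine ⟨U.1, hUW, hzU, sub_eq_zero.1 ?_⟩
  let t := res Λ'.L hUW x - res Λ'.L hUW y
  have h0 : (∏ j, g j) • t = 0 := by
    rw [← ev_poleMap hd hD e he Λ' (show IsEqs D U g from hg) t, map_sub, ← sub_self ((Λ'.ι.app U.1)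
      (IsEqs.ev (show IsEqs D U g from hg) ((poleMap hd hD e he Λ').app U.1 (res Λ'.L hUW x)))), map_sub, map_sub]
    rw [app_res, app_res, hxy]
  obtain ⟨ω, hω⟩ := prod_smul_mem id (fun _ => rfl) Λ' U (g ∘ e) (IsEqs.comp e he hg) t
  have hsplit : (∏ j, g j) = (∏ j ∈ (Finset.univ.image e)ᶜ, g j) * ∏ k, g (e k) := by
    rw [← Finset.prod_compl_mul_prod (Finset.univ.image e) g, Finset.prod_image fun a _ b _ h => hinj h]
  have hω0 : ω = 0 := by
    refine omega_torsionFree hd hD U (prod_mem fun j (_ : j ∈ (Finset.univ.image e)ᶜ) =>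
      IsEqs.mem_nonZeroDivisors hd hD (show IsEqs D U g from hg) j) ω ?_
    refine app_injective_of_mono Λ'.ι U.1 ?_
    rw [Scheme.Modules.Hom.app_smul, hω, map_zero, smul_smul]
    rw [hsplit] at h0
    exact h0
  rw [hω0, map_zero] at hω
  exact (Λ'.rule U (g ∘ e) (IsEqs.comp e he hg)).1 t hω.symm

variable (Λ : LogNCD.LogMod d D)

/-- A map of logarithmic forms under the forms commutes with the maps to forms with poles. -/
theorem comp_poleMap (κ : Λ'.L ⟶ Λ.L) (hκ : Λ'.ι ≫ κ = Λ.ι) :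
    κ ≫ poleMap hd hD id (fun _ => rfl) Λ = poleMap hd hD e he Λ' := by
  refine Scheme.Modules.hom_ext _ _ fun W => ?_
  ext x
  refine HomOn.ext' fun V hV p => ?_
  show preimage hd hD id (fun _ => rfl) Λ p (res Λ.L hV (κ.app W x)) = preimage hd hD e he Λ' p (res Λ'.L hV x)
  refine eq_preimage hd hD id (fun _ => rfl) Λ _ _ _ ?_
  have h1 := congrArg (fun φ : Ω' ⟶ Λ.L => φ.app V (preimage hd hD e he Λ' p (res Λ'.L hV x))) hκ
  refine h1.symm.trans ?_
  show κ.app V (Λ'.ι.app V (preimage hd hD e he Λ' p (res Λ'.L hV x))) = _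
  rw [ι_preimage, Scheme.Modules.Hom.app_smul, app_res]

include hd hD he in
theorem exists_subLog : ∃ κ : Λ'.L ⟶ Λ.L, LogNCD.IsSubLog Λ' Λ κ := by
  let Φ := poleMap hd hD id (fun _ => rfl) Λ
  haveI : Mono Φ := mono_poleMap hd hD id (fun _ => rfl) Λ Function.injective_id
  let ψ := poleMap hd hD e he Λ'
  have h0 : ψ ≫ cokernel.π Φ = 0 := by
    refine Scheme.Modules.hom_ext _ _ fun W => ?_
    ext x
    refine section_ext _ _ _ fun z hz => ?_
    obtain ⟨U, hUW, hzU, g, hg⟩ := LogLoc97.exists_principal_affine hD W hz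
    refine ⟨U.1, hUW, hzU, ?_⟩
    show res _ hUW ((cokernel.π Φ).app W (ψ.app W x)) = res _ hUW 0
    rw [res_zero, ← app_res, ← app_res]
    obtain ⟨dl, h1, -, -, -⟩ := LogLoc97.exists_decomp Λ U g hg
    obtain ⟨dl', h1', -, -, hdec⟩ := LogLoc97.exists_decomp Λ' U (g ∘ e) (IsEqs.comp e he hg)
    obtain ⟨ω, a, hx⟩ := hdec (res Λ'.L hUW x)
    have hψ : ψ.app U.1 (res Λ'.L hUW x) = Φ.app U.1 (Λ.ι.app U.1 ω + ∑ k, a k • dl (e k)) := by
      rw [← hx, map_add, map_add, map_sum, map_sum]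
      refine congrArg₂ (· + ·) ?_ (Finset.sum_congr rfl fun k _ => ?_)
      · exact (congrArg (fun φ : Ω' ⟶ poles Ω' D => φ.app U.1 ω) (ι_poleMap hd hD e he Λ')).trans
          (congrArg (fun φ : Ω' ⟶ poles Ω' D => φ.app U.1 ω) (ι_poleMap hd hD id (fun _ => rfl) Λ)).symm
      · rw [Scheme.Modules.Hom.app_smul, Scheme.Modules.Hom.app_smul,
          poleMap_dl hd hD e he Λ' (show IsEqs D U g from hg) k (dl' k) (h1' k),
          poleMap_dl hd hD id (fun _ => rfl) Λ (show IsEqs D U g from hg) (e k) (dl (e k)) (h1 (e k))]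
        rfl
    rw [hψ]
    exact congrArg (fun φ : Λ.L ⟶ _ => φ.app U.1 (Λ.ι.app U.1 ω + ∑ k, a k • dl (e k))) (cokernel.condition Φ)
  have hex := ShortComplex.exact_of_g_is_cokernel (ShortComplex.mk Φ (cokernel.π Φ) (cokernel.condition _))
    (cokernelIsCokernel _)
  haveI : Mono (ShortComplex.mk Φ (cokernel.π Φ) (cokernel.condition _)).f := ‹Mono Φ›
  refine ⟨hex.lift ψ h0, ?_⟩
  show Λ'.ι ≫ hex.lift ψ h0 = Λ.ι
  rw [← cancel_mono Φ, Category.assoc, show hex.lift ψ h0 ≫ Φ = ψ from hex.lift_f ψ h0, ι_poleMap, ι_poleMap]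

include hd in
theorem shortExact_subLog {r : ℕ} {D : Fin (r + 1) → X.IdealSheafData} (hD : LogNCD.IsNCD D f) (i : Fin (r + 1))
    (Λ : LogNCD.LogMod d D) (Λ' : LogNCD.LogMod d (D ∘ i.succAbove))
    (κ : Λ'.L ⟶ Λ.L) (hκ : LogNCD.IsSubLog Λ' Λ κ) (h : κ ≫ Λ.res i = 0) :
    (ShortComplex.mk κ (Λ.res i) h).ShortExact := by
  classical
  let Φ := poleMap hd hD id (fun _ => rfl) Λ
  let ψ := poleMap hd hD i.succAbove (fun _ => rfl) Λ'
  haveI : Mono Φ := mono_poleMap hd hD id (fun _ => rfl) Λ Function.injective_id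
  haveI : Mono ψ := mono_poleMap hd hD _ (fun _ => rfl) Λ' Fin.succAbove_right_injective
  have hc : κ ≫ Φ = ψ := comp_poleMap hd hD _ (fun _ => rfl) Λ' Λ κ hκ
  haveI hm : Mono κ := mono_of_mono_fac hc
  have hepi : Epi (Λ.res i) := epi_of_locally_surjective _ fun W s p hp => by
    obtain ⟨U, hUW, hpU, g, hg⟩ := LogLoc97.exists_principal_affine hD W hp
    obtain ⟨dl, -, h3, -, -⟩ := LogLoc97.exists_decomp Λ U g hg
    obtain ⟨a, ha⟩ := (D i).subschemeι.app_surjective U.1 U.2 (res (ClSub.quotMod (D i)) hUW s)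
    refine ⟨U.1, hUW, a • dl i, hpU, ?_⟩
    rw [Scheme.Modules.Hom.app_smul, h3, ← LogLoc97.toSubscheme_app_eq]
    exact ha
  refine { exact := ?_, mono_f := hm, epi_g := hepi }
  rw [ShortComplex.exact_iff_epi_kernel_lift]
  refine epi_of_locally_surjective _ fun W s p hp => ?_
  obtain ⟨U, hUW, hpU, g, hg⟩ := LogLoc97.exists_principal_affine hD W hp
  obtain ⟨dl, h1, h3, h4, hdec⟩ := LogLoc97.exists_decomp Λ U g hg
  obtain ⟨dl', h1', -, -, -⟩ := LogLoc97.exists_decomp Λ' U (g ∘ i.succAbove) (fun k => hg _)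
  let k := kernel.ι (Λ.res i)
  obtain ⟨ω, a, hωa⟩ := hdec (k.app U.1 (res _ hUW s))
  have h0 : (Λ.res i).app U.1 (k.app U.1 (res _ hUW s)) = 0 :=
    congrArg (fun φ : kernel (Λ.res i) ⟶ _ => φ.app U.1 (res _ hUW s)) (kernel.condition (Λ.res i))
  rw [← hωa, LogLoc97.res_decomp Λ U.1 dl h3 h4] at h0
  obtain ⟨c, hc'⟩ := Ideal.mem_span_singleton'.1 (hg i ▸ LogLoc97.mem_ideal_of_smul_oneOn _ U _ h0)
  have hκι : ∀ η, κ.app U.1 (Λ'.ι.app U.1 η) = Λ.ι.app U.1 η := fun η =>
    congrArg (fun φ : Ω' ⟶ Λ.L => φ.app U.1 η) hκ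
  have hκdl : ∀ j, κ.app U.1 (dl' j) = dl (i.succAbove j) := fun j => by
    refine app_injective_of_mono Φ U.1 ?_
    refine (congrArg (fun φ : Λ'.L ⟶ poles Ω' D => φ.app U.1 (dl' j)) hc).trans ?_
    exact (poleMap_dl hd hD _ (fun _ => rfl) Λ' (show IsEqs D U g from hg) j (dl' j) (h1' j)).trans
      (poleMap_dl hd hD id (fun _ => rfl) Λ (show IsEqs D U g from hg) (i.succAbove j) (dl (i.succAbove j))
        (h1 _)).symm
  refine ⟨U.1, hUW, Λ'.ι.app U.1 (ω + c • d.app U.1 (g i)) + ∑ j, a (i.succAbove j) • dl' j, hpU,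
    app_injective_of_mono k U.1 ?_⟩
  refine Eq.trans ?_ hωa
  have hk : kernel.lift (Λ.res i) κ h ≫ k = κ := kernel.lift_ι _ _ _
  refine (congrArg (fun φ : Λ'.L ⟶ Λ.L => φ.app U.1 _) hk).trans ?_
  rw [map_add, hκι, map_sum, map_add, Fin.sum_univ_succAbove (fun l => a l • dl l) i, ← add_assoc]
  refine congrArg₂ (· + ·) ?_ (Finset.sum_congr rfl fun j _ => ?_)
  · rw [Scheme.Modules.Hom.app_smul, ← h1, smul_smul, hc']
  · rw [Scheme.Modules.Hom.app_smul, hκdl]

end Groth.Agent.CAlg8.LogExist
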